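import Groth.Agent.L04.ProjVanish.TwistCoh
import Groth.Agent.L16.Existence.AmpleVanish
import Groth.Agent.L16.ProjSpace.QuotTwist
import Groth.Agent.L18.GradedGen
import Groth.Prelude.Def_Twist2

/-!
Serre vanishing on `Proj` of a Noetherian graded ring.
-/

set_option backward.isDefEq.respectTransparency false
set_option backward.isDefEq.respectTransparency.types false

universe u

open CategoryTheory CategoryTheory.Limits AlgebraicGeometry TopologicalSpace Opposite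

namespace Groth.L04.ProjVanish

open Groth.L00.Tensor (tensorIso tensorAssoc tensorComm tensorUnitLeft)

variable {R A : Type u} [CommRing R] [CommRing A] [Algebra R A] (𝒜 : ℕ → Submodule R A)
  [GradedAlgebra 𝒜]

theorem nonempty_twist_iso_pow_tensor {d : ℕ} (h : ∀ x : Proj 𝒜, ∃ f : 𝒜 d, x ∈ Proj.basicOpen 𝒜 f.1)
    (m : ℤ) : ∀ q : ℕ, Nonempty (Twist.twist 𝒜 (m + (q * d : ℕ)) ≅
      CohB1.tensorMod (CohB1.tensorPow (Twist.twist 𝒜 (d : ℤ)) q) (Twist.twist 𝒜 m))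
  | 0 => ⟨eqToIso (by rw [Nat.zero_mul, Nat.cast_zero, add_zero]) ≪≫ (tensorUnitLeft _).symm⟩
  | q + 1 => by
    obtain ⟨e⟩ := nonempty_twist_iso_pow_tensor h m q
    obtain ⟨e'⟩ := nonempty_tensor_twist_right 𝒜 (m + (q * d : ℕ)) h
    exact ⟨eqToIso (congrArg (Twist.twist 𝒜) (by push_cast; ring)) ≪≫ e'.symm ≪≫
      tensorIso e (Iso.refl _) ≪≫ tensorAssoc _ _ _ ≪≫
      tensorIso (Iso.refl _) (tensorComm _ _) ≪≫ (tensorAssoc _ _ _).symm⟩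

/-- Serre vanishing on `Proj` of a Noetherian graded ring. -/
theorem exists_vanishing [IsNoetherianRing A] (F : (Proj 𝒜).Modules) (hF : Coh.IsCoh F) :
    ∃ d₀ : ℤ, ∀ d : ℤ, d₀ ≤ d → ∀ p : ℕ, 0 < p →
      Subsingleton (Coh.HH (Proj 𝒜) (Twist.twistBy 𝒜 F d) p) := by
  classical
  obtain ⟨D, hD, ι, hι, G, hG⟩ := Groth.L16.ProjTwist.exists_cover_common_degree 𝒜
  have hcov : ∀ x : Proj 𝒜, ∃ g : 𝒜 D, x ∈ Proj.basicOpen 𝒜 g.1 := fun x =>
    (hG x).elim fun i hi => ⟨G i, hi⟩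
  have hamp : CohB1.IsAmple (Twist.twist 𝒜 (D : ℤ)) :=
    Groth.L16.ProjTwist.isAmple_twist 𝒜 hD G (top_le_iff.1 fun x _ =>
      TopologicalSpace.Opens.mem_iSup.2 (hG x))
  obtain ⟨h0, hft⟩ := (Groth.L18.isNoetherianRing_iff 𝒜).1 inferInstance
  letI : (Proj 𝒜).Over (Spec (CommRingCat.of (𝒜 0))) := ⟨Proj.toSpecZero 𝒜⟩
  haveI : IsProper ((Proj 𝒜) ↘ Spec (CommRingCat.of (𝒜 0))) :=
    inferInstanceAs (IsProper (Proj.toSpecZero 𝒜))
  have hM : ∀ r : ℕ, Coh.IsCoh (CohB1.tensorMod F (Twist.twist 𝒜 (r : ℤ))) := fun r => by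
    have hr := isCoh_twist 𝒜 (r : ℤ)
    haveI : Coh.IsQCoh F := hF.1
    haveI : Coh.IsQCoh (Twist.twist 𝒜 (r : ℤ)) := hr.1
    exact ⟨Groth.L00.Tensor.isQCoh_tensorMod _ _, Groth.L00.Tensor.isFT_tensorMod _ _ hF.2 hr.2⟩
  choose q₀ hq₀ using fun r : ℕ =>
    Groth.L16.Existence.exists_vanishing_of_isAmple (A := (𝒜 0)) hamp (hM r)
  let Q := (Finset.range D).sup q₀
  refine ⟨((D * (Q + 1) : ℕ) : ℤ), fun d hd p hp => ?_⟩
  obtain ⟨e, rfl⟩ : ∃ e : ℕ, d = (e : ℤ) := ⟨d.toNat, (Int.toNat_of_nonneg (by omega)).symm⟩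
  have he : D * (Q + 1) ≤ e := by exact_mod_cast hd
  have hr : e % D < D := Nat.mod_lt _ hD
  have hq : q₀ (e % D) ≤ e / D := by
    refine (Finset.le_sup (Finset.mem_range.2 hr)).trans ?_
    exact (Nat.le_succ Q).trans ((Nat.le_div_iff_mul_le hD).2 (by rw [Nat.mul_comm]; exact he))
  obtain ⟨ε⟩ := nonempty_twist_iso_pow_tensor 𝒜 hcov ((e % D : ℕ) : ℤ) (e / D)
  have hde : (e : ℤ) = ((e % D : ℕ) : ℤ) + ((e / D * D : ℕ) : ℤ) := by
    rw [← Nat.cast_add, Nat.cast_inj]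
    exact (Nat.mod_add_div' e D).symm
  let φ : Twist.twistBy 𝒜 F (e : ℤ) ≅ CohB1.tensorMod (CohB1.tensorPow (Twist.twist 𝒜 (D : ℤ)) (e / D))
      (CohB1.tensorMod F (Twist.twist 𝒜 ((e % D : ℕ) : ℤ))) :=
    tensorIso (Iso.refl F) (eqToIso (congrArg (Twist.twist 𝒜) hde) ≪≫ ε) ≪≫ (tensorAssoc _ _ _).symm ≪≫
      tensorIso (tensorComm _ _) (Iso.refl _) ≪≫ tensorAssoc _ _ _
  exact Groth.L16.ProjSpace.subsingleton_of_iso φ p (hq₀ (e % D) (e / D) hq p hp)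

end Groth.L04.ProjVanish
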