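import Groth.Agent.L16.ProjSpace.TwistQCoh
import Groth.Agent.L16.CohKernel
import Mathlib.RingTheory.Finiteness.Defs

/-!
`O(n)` on `Proj` of a Noetherian graded ring is coherent, for every `n`; the multiplication
`O(m) ⊗ O(d) ≅ O(m + d)` when the `D₊(f)`, `deg f = d`, cover.
-/

set_option backward.isDefEq.respectTransparency false
set_option backward.isDefEq.respectTransparency.types false

universe u

open CategoryTheory CategoryTheory.Limits AlgebraicGeometry TopologicalSpace Opposite MonoidalCategory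
open Groth.L00

namespace Groth.L04.ProjVanish

open Groth.L16.ProjTwist

variable {R A : Type u} [CommRing R] [CommRing A] [Algebra R A] {𝒜 : ℕ → Submodule R A}
  [GradedAlgebra 𝒜]

section Finite

variable (n : ℤ) {d : ℕ} {f : A} (hd : 0 < d) (hf : f ∈ 𝒜 d)

/-- Evaluation of a chart section at a point. -/
noncomputable def evalAt
    (x : (Proj.awayι 𝒜 f hf hd ''ᵁ ⊤ : Opens (ProjectiveSpectrum.top 𝒜))) :
    Γ(chartMod n hd hf, ⊤) →+ Twist.Loc 𝒜 x.1 where
  toFun s := ((toFun' n hd hf s).1 x).1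
  map_zero' := rfl
  map_add' _ _ := rfl

/-- The chart modules of `O(n)` are finite. -/
theorem finite_chartMod [IsNoetherianRing A] :
    Module.Finite (HomogeneousLocalization.Away 𝒜 f) Γ(chartMod n hd hf, ⊤) := by
  classical
  obtain ⟨G, hG, hspan⟩ := (Submodule.fg_span_iff_fg_span_finset_subset _).1
    (IsNoetherian.noetherian (Ideal.span
      {a : A | ∃ K m : ℕ, a ∈ 𝒜 m ∧ (m : ℤ) = (K * d : ℕ) + n}))
  choose K m hm hKm using fun g : G => hG g.2
  let W : Opens (ProjectiveSpectrum.top 𝒜) := Proj.awayι 𝒜 f hf hd ''ᵁ ⊤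
  have hW : ∀ (k : ℕ) (x : W), f ^ k ∉ x.1.asHomogeneousIdeal := fun k x =>
    notMem_pow 𝒜 ((Proj.mem_basicOpen _ _ _).1 (image_le hd hf ⊤ x.2)) k
  let gs : G → Γ(chartMod n hd hf, ⊤) := fun g =>
    gen (⟨g.1, hm g⟩ : 𝒜 (m g)) (⟨f ^ K g, SetLike.pow_mem_graded _ hf⟩ : 𝒜 (K g • d))
      (show ((m g : ℕ) : ℤ) = ((K g • d : ℕ) : ℤ) + n by rw [smul_eq_mul]; exact hKm g) W (hW (K g))
  refine ⟨⟨Finset.univ.image gs, top_le_iff.1 fun s _ => ?_⟩⟩
  rw [Finset.coe_image, Finset.coe_univ, Set.image_univ, Submodule.mem_span_range_iff_exists_fun]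
  obtain ⟨K₀, m₀, a, ha, hm₀, hs⟩ := exists_eq_mk hd hf (U := W)
    (fun x => by
      change x ∈ Proj.awayι 𝒜 f hf hd ''ᵁ ⊤ ↔ _
      rw [Scheme.Hom.image_top_eq_opensRange, Proj.opensRange_awayι]
      exact Proj.mem_basicOpen _ _ _) (toFun' n hd hf s)
  have hamem : a ∈ Ideal.span {a : A | ∃ K m : ℕ, a ∈ 𝒜 m ∧ (m : ℤ) = (K * d : ℕ) + n} :=
    Ideal.subset_span ⟨K₀, m₀, ha, hm₀⟩
  obtain ⟨c, -, hc⟩ := Submodule.mem_span_finset.1
    (show a ∈ Submodule.span A (G : Set A) from hspan ▸ hamem)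
  have hle : ∀ g : G, m g ≤ m₀ → K g ≤ K₀ := fun g h => by
    have h1 := hKm g
    by_contra hlt
    push Not at hlt
    have h2 : K₀ * d < K g * d := Nat.mul_lt_mul_of_pos_right hlt hd
    omega
  have hdeg : ∀ g : G, m g ≤ m₀ → m₀ - m g = (K₀ - K g) • d := fun g h => by
    have h1 := hKm g
    have h2 := Nat.mul_le_mul_right d (hle g h)
    rw [smul_eq_mul, Nat.sub_mul]
    omega
  let p : G → A := fun g => if m g ≤ m₀ then (DirectSum.decompose 𝒜 (c g.1) (m₀ - m g) : A) else 0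
  have hp : ∀ g : G, p g ∈ 𝒜 ((K₀ - K g) • d) := fun g => by
    simp only [p]
    split_ifs with h
    · rw [← hdeg g h]; exact SetLike.coe_mem _
    · exact zero_mem _
  have hsum : a = ∑ g : G, p g * g.1 := by
    conv_lhs => rw [← DirectSum.decompose_of_mem_same 𝒜 ha, ← hc]
    rw [DirectSum.decompose_sum, DFinsupp.finsetSum_apply, AddSubmonoidClass.coe_finsetSum,
      ← Finset.sum_coe_sort]
    refine Finset.sum_congr rfl fun g _ => ?_
    simp only [p, smul_eq_mul]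
    split_ifs with h
    · exact DirectSum.coe_decompose_mul_of_right_mem_of_le 𝒜 (hm g) h
    · rw [zero_mul]; exact DirectSum.coe_decompose_mul_of_right_mem_of_not_le 𝒜 (hm g) h
  refine ⟨fun g => sc hf (K₀ - K g) (p g) (hp g), sectN_ext fun x => ?_⟩
  refine Eq.trans ?_ (hs x).symm
  show evalAt n hd hf x (∑ g, sc hf (K₀ - K g) (p g) (hp g) • gs g) = _
  rw [map_sum]
  have key : ∀ g : G, evalAt n hd hf x (sc hf (K₀ - K g) (p g) (hp g) • gs g) =
      Localization.mk (p g * g.1) ⟨f ^ K₀, hW K₀ x⟩ := fun g => by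
    refine (smul_val n hd hf _ _ (hp g) (gs g) x).trans ?_
    show _ * Localization.mk g.1 ⟨f ^ K g, hW (K g) x⟩ = _
    rw [Localization.mk_mul, Localization.mk_eq_mk_iff, Localization.r_iff_exists]
    refine ⟨1, ?_⟩
    by_cases h : m g ≤ m₀
    · simp only [Submonoid.coe_mul, OneMemClass.coe_one, one_mul, ← pow_add,
        Nat.sub_add_cancel (hle g h)]
    · simp [p, h]
  simp only [key]
  rw [hsum]
  exact (map_sum (({ toFun := fun a => Localization.mk a ⟨f ^ K₀, hW K₀ x⟩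
                     map_zero' := Localization.mk_zero _
                     map_add' := fun a b => (Localization.add_mk_self a ⟨f ^ K₀, hW K₀ x⟩ b).symm } :
      A →+ Twist.Loc 𝒜 x.1)) _ _).symm

end Finite

/-- `O(n)` is coherent. -/
theorem isCoh_twist (𝒜 : ℕ → Submodule R A) [GradedAlgebra 𝒜] [IsNoetherianRing A] (n : ℤ) :
    Coh.IsCoh (Twist.twist 𝒜 n) := by
  classical
  refine Groth.L16.CohKernel.isCoh_of_tilde_charts _ fun x => ?_
  obtain ⟨i, g, hi, hgx⟩ : ∃ (i : ℕ) (g : A), 0 < i ∧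
      GradedRing.proj 𝒜 i g ∉ (x : ProjectiveSpectrum 𝒜).asHomogeneousIdeal := by
    obtain ⟨g, hg, hgx⟩ := SetLike.not_le_iff_exists.1 (x : ProjectiveSpectrum 𝒜).not_irrelevant_le
    by_contra hc
    push Not at hc
    refine hgx ?_
    rw [← DirectSum.sum_support_decompose 𝒜 g]
    refine Ideal.sum_mem _ fun i _ => ?_
    rcases Nat.eq_zero_or_pos i with rfl | hpos
    · rw [show ((DirectSum.decompose 𝒜 g 0 : 𝒜 0) : A) = 0 from
        (HomogeneousIdeal.mem_irrelevant_iff _ _).1 hg]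
      exact zero_mem _
    · exact hc i g hpos
  have hf : GradedRing.proj 𝒜 i g ∈ 𝒜 i := SetLike.coe_mem _
  haveI := (isIso_fromTildeΓ_iff_isLocalizing (chartMod n hi hf)).2 (isLocalizing_chartMod n hi hf)
  refine ⟨.of (HomogeneousLocalization.Away 𝒜 (GradedRing.proj 𝒜 i g)), Proj.awayι 𝒜 _ hf hi,
    inferInstance, _, ?_, ?_,
    ⟨(asIso (Scheme.Modules.fromTildeΓ
      (R := .of (HomogeneousLocalization.Away 𝒜 (GradedRing.proj 𝒜 i g))) (chartMod n hi hf))).symm⟩⟩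
  · rw [Proj.opensRange_awayι]
    exact (Proj.mem_basicOpen _ _ _).2 hgx
  · exact finite_chartMod n hi hf

section Mul

variable {d : ℕ}

lemma exists_cast {m m' : ℤ} (h : m = m') {U : (Opens (ProjectiveSpectrum.top 𝒜))ᵒᵖ}
    (s : Twist.sectN (𝒜 := 𝒜) m U) :
    ∃ t : Twist.sectN (𝒜 := 𝒜) m' U, ∀ x, (t.1 x).1 = (s.1 x).1 := by
  subst h
  exact ⟨s, fun _ => rfl⟩

theorem mulPre_bijective_right (m : ℤ) (f : 𝒜 d) (W : (Proj 𝒜).Opens)
    (hW : W ≤ Proj.basicOpen 𝒜 f.1) :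
    Function.Bijective ((mulPre 𝒜 m (d : ℤ)).app (op W)) := by
  let one : 𝒜 0 := ⟨1, SetLike.GradedOne.one_mem⟩
  have h1 : ∀ x : (W : Opens (ProjectiveSpectrum.top 𝒜)), (one : A) ∉ x.1.asHomogeneousIdeal :=
    fun x hx => x.1.isPrime.ne_top ((Ideal.eq_top_iff_one _).mpr hx)
  have hfW : ∀ x : (W : Opens (ProjectiveSpectrum.top 𝒜)), f.1 ∉ x.1.asHomogeneousIdeal :=
    fun x => (Proj.mem_basicOpen _ _ _).1 (hW x.2)
  have hN : ((d : ℕ) : ℤ) = ((0 : ℕ) : ℤ) + d := by simp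
  let G : (P 𝒜 (d : ℤ)).obj (op W) := gen f one hN W h1
  have key : ∀ z : (P 𝒜 m ⊗ P 𝒜 (d : ℤ)).obj (op W), ∃ g : (P 𝒜 m).obj (op W),
      z = g ⊗ₜ[(Proj 𝒜).sheaf.obj.obj (op W)] G := by
    intro z
    induction z using TensorProduct.induction_on with
    | zero => exact ⟨0, (TensorProduct.zero_tmul _ _).symm⟩
    | tmul g h =>
      obtain ⟨c, hc⟩ := smul_gen_surjective f one hN W hfW h1 h
      let c' : (Proj 𝒜).sheaf.obj.obj (op W) := c
      have hc' : h = c' • G := hc.symm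
      let g' : (P 𝒜 m).obj (op W) := g
      let r1 : (Proj 𝒜).sheaf.obj.obj (op W) := 1
      have h1' := TensorProduct.smul_tmul_smul r1 c' g' G
      have h2' := TensorProduct.smul_tmul_smul c' r1 g' G
      rw [mul_comm c' r1, ← h1', one_smul, one_smul] at h2'
      refine ⟨c' • g', ?_⟩
      rw [hc']
      exact h2'.symm
    | add z z' hz hz' =>
      obtain ⟨g, rfl⟩ := hz
      obtain ⟨g', rfl⟩ := hz'
      exact ⟨g + g', (TensorProduct.add_tmul _ _ _).symm⟩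
  refine ⟨fun z z' e => ?_, fun y => ?_⟩
  · obtain ⟨g, rfl⟩ := key z
    obtain ⟨g', rfl⟩ := key z'
    have e' : mulSect (toS g) (toS G) = mulSect (toS g') (toS G) := e
    suffices h : toS g = toS g' by
      have h' : g = g' := h
      rw [h']
    refine sectN_ext fun x => ?_
    have := congrArg (fun s => ((s : Twist.sectN (𝒜 := 𝒜) (m + d) (op W)).1 x).1 *
      Localization.mk (1 : A) ⟨f.1, hfW x⟩) e'
    simp only [mulSect_apply, mul_assoc] at this
    have hu : ((toS G).1 x).1 * Localization.mk (1 : A) ⟨f.1, hfW x⟩ = 1 := by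
      show Localization.mk f.1 ⟨(1 : A), h1 x⟩ * Localization.mk (1 : A) ⟨f.1, hfW x⟩ = 1
      rw [Localization.mk_mul, ← Localization.mk_one, Localization.mk_eq_mk_iff,
        Localization.r_iff_exists]
      exact ⟨1, by simp [mul_comm]⟩
    rwa [hu, mul_one, mul_one] at this
  · have hN' : ((0 : ℕ) : ℤ) = ((d : ℕ) : ℤ) + -(d : ℤ) := by simp
    let G' : Twist.sectN (𝒜 := 𝒜) (-(d : ℤ)) (op W) := gen one f hN' W hfW
    obtain ⟨g, hg⟩ := exists_cast (show m + (d : ℤ) + -(d : ℤ) = m by ring) (mulSect (toS y) G')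
    refine ⟨(show (P 𝒜 m).obj (op W) from g) ⊗ₜ[(Proj 𝒜).sheaf.obj.obj (op W)] G, ?_⟩
    refine (mulPre_tmul _ _ _).trans (sectN_ext fun x => ?_)
    rw [mulSect_apply, show ((toS (show (P 𝒜 m).obj (op W) from g)).1 x).1 =
      ((toS y).1 x).1 * (G'.1 x).1 from (hg x).trans (mulSect_apply _ _ _)]
    show ((toS y).1 x).1 * Localization.mk (1 : A) ⟨f.1, hfW x⟩ *
      Localization.mk f.1 ⟨(1 : A), h1 x⟩ = _
    rw [mul_assoc, Localization.mk_mul]
    have : Localization.mk ((1 : A) * f.1) (⟨f.1, hfW x⟩ * ⟨(1 : A), h1 x⟩) = (1 : Twist.Loc 𝒜 x.1) := by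
      rw [← Localization.mk_one, Localization.mk_eq_mk_iff, Localization.r_iff_exists]
      exact ⟨1, by simp⟩
    erw [this, mul_one]
    rfl

variable (𝒜) in
/-- `O(m) ⊗ O(d) ≅ O(m + d)` when the `D₊(f)`, `deg f = d`, cover. -/
theorem nonempty_tensor_twist_right (m : ℤ) (h : ∀ x : Proj 𝒜, ∃ f : 𝒜 d, x ∈ Proj.basicOpen 𝒜 f.1) :
    Nonempty (CohB1.tensorMod (Twist.twist 𝒜 m) (Twist.twist 𝒜 (d : ℤ)) ≅
      Twist.twist 𝒜 (m + d)) := by
  have hWp : Tensor.Wp (mulPre 𝒜 m (d : ℤ)) := by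
    rw [Tensor.Wp, (Opens.grothendieckTopology (Proj 𝒜)).W_iff_isLocallyBijective]
    refine ⟨⟨fun {U} z z' e x hx => ?_⟩, ⟨fun {U} y x hx => ?_⟩⟩
    · obtain ⟨f, hf⟩ := h x
      refine ⟨U.unop ⊓ Proj.basicOpen 𝒜 f.1, homOfLE inf_le_left, ?_, ⟨hx, hf⟩⟩
      refine (mulPre_bijective_right m f _ inf_le_right).1 ?_
      change (mulPre 𝒜 m (d : ℤ)).app _ (Tensor.rs _ _ z) = (mulPre 𝒜 m (d : ℤ)).app _ (Tensor.rs _ _ z')
      rw [Tensor.app_rs, Tensor.app_rs]
      exact congrArg _ e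
    · obtain ⟨f, hf⟩ := h x
      exact ⟨U ⊓ Proj.basicOpen 𝒜 f.1, homOfLE inf_le_left,
        (mulPre_bijective_right m f _ inf_le_right).2 _, ⟨hx, hf⟩⟩
  exact ⟨@asIso _ _ _ _ ((Tensor.shf _).map (mulPre 𝒜 m (d : ℤ)))
      ((Tensor.isIso_shf_map_iff _).2 hWp) ≪≫ Tensor.counitIso _⟩

end Mul

end Groth.L04.ProjVanish
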